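import Groth.Agent.Lib.SepMod5.Stage
import Groth.Agent.Lib.FibDepth5.Data

/-!
# Modules flat over an affine base
-/

set_option autoImplicit false
set_option backward.isDefEq.respectTransparency.types false

universe u

open AlgebraicGeometry CategoryTheory TensorProduct
open Groth.Agent

namespace Groth.Agent.SepMod5

theorem baseMap_eq {X : Scheme.{u}} {k : CommRingCat.{u}} (p : X ⟶ Spec k) {W : X.Opens}
    (hW : IsAffineOpen W) :
    baseMap p hW = (Scheme.ΓSpecIso k).inv ≫ p.appLE ⊤ W (fun _ _ => trivial) := by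
  apply Spec.map_injective
  rw [baseMap, Spec.map_preimage, Spec.map_comp,
    ← (isAffineOpen_top (Spec k)).SpecMap_appLE_fromSpec p hW (fun _ _ => trivial)]
  congr 1
  rw [IsAffineOpen.fromSpec_top, Scheme.isoSpec_Spec_inv]

/-- Sections of a module flat over the base. -/
theorem flat_sections_base {X : Scheme.{u}} {k : CommRingCat.{u}} (p : X ⟶ Spec k) (G : X.Modules)
    [Coh.IsQCoh G] (hG : FlatMod.IsFlatOver p G) {W : X.Opens} (hW : IsAffineOpen W) :
    letI := baseAlg p hW
    letI : Module k Γ(G, W) := Module.compHom _ (algebraMap k Γ(X, W))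
    Module.Flat k Γ(G, W) := by
  letI := baseAlg p hW
  letI : Module k Γ(G, W) := Module.compHom _ (algebraMap k Γ(X, W))
  have e : W ≤ p ⁻¹ᵁ ⊤ := fun _ _ => trivial
  letI := FlatH4.secModuleOver p G ⊤ W e
  letI : Algebra k Γ(Spec k, ⊤) := (Scheme.ΓSpecIso k).inv.hom.toAlgebra
  haveI : IsScalarTower k Γ(Spec k, ⊤) Γ(G, W) := IsScalarTower.of_algebraMap_smul fun c s => by
    show p.appLE ⊤ W e ((Scheme.ΓSpecIso k).inv c) • s = baseMap p hW c • s
    rw [baseMap_eq p hW]
    rfl
  haveI : Module.Flat Γ(Spec k, ⊤) Γ(G, W) := FibDepth5.flat_sections p G hG (isAffineOpen_top _) hW e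
  haveI : Module.Flat k Γ(Spec k, ⊤) := Module.Flat.of_linearEquiv
    (AlgEquiv.ofBijective (Algebra.ofId k Γ(Spec k, ⊤))
      (ConcreteCategory.bijective_of_isIso (Scheme.ΓSpecIso k).inv)).toLinearEquiv.symm
  exact Module.Flat.trans k Γ(Spec k, ⊤) Γ(G, W)

end Groth.Agent.SepMod5
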