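import Groth.Agent.Lib.SchDom.PullSections
import Groth.Agent.Lib.SchDom.Alg
import Groth.Agent.Lib.ModM1.Stalk
import Mathlib.RingTheory.Artinian.Module

/-!
# Separating families of homomorphisms of quasi-coherent modules and their pullbacks
-/

set_option autoImplicit false
set_option backward.isDefEq.respectTransparency.types false

universe u

open AlgebraicGeometry CategoryTheory TensorProduct
open Groth.Agent

namespace Groth.Agent.SepMod5

variable {X : Scheme.{u}} {F : X.Modules} {ι : Type u} {G : ι → X.Modules}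

/-- A section killed by every member of the family is zero. -/
def Separating (u : ∀ i, F ⟶ G i) : Prop :=
  ∀ (V : X.Opens) (t : ↑((F).presheaf.obj (Opposite.op V))),
    (∀ i, (Scheme.Modules.Hom.mapPresheaf (u i)).app (Opposite.op V) t = 0) → t = 0

/-- Separation can be checked on affine opens, small around each point. -/
theorem separating_of_affine (u : ∀ i, F ⟶ G i)
    (h : ∀ (V : X.Opens) (x : X), x ∈ V → ∃ W : X.Opens, IsAffineOpen W ∧ W ≤ V ∧ x ∈ W ∧
      ∀ t : Γ(F, W), (∀ i, (u i).app W t = 0) → t = 0) :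
    Separating u := by
  intro V t ht
  choose W hWaff hWV hxW hW using fun x : V => h V x x.2
  refine M1.modules_eq_of_locally_eq F V W hWV
    (fun x hx => TopologicalSpace.Opens.mem_iSup.2 ⟨⟨x, hx⟩, hxW _⟩) t 0 fun x => ?_
  rw [map_zero]
  refine hW x _ fun i => ?_
  rw [M1.app_mres]
  exact (congrArg _ (ht i)).trans (map_zero _)

/-- The linear maps on the sections over an open. -/
theorem Separating.injective {u : ∀ i, F ⟶ G i} (h : Separating u) (W : X.Opens) (t : Γ(F, W))
    (ht : ∀ i, SchDom.appLin (u i) W t = 0) : t = 0 :=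
  h W t ht

variable [Coh.IsQCoh F] [∀ i, Coh.IsQCoh (G i)]

/-- A separating family separates after localizing at each function on an affine open. -/
theorem Separating.sep {u : ∀ i, F ⟶ G i} (h : Separating u) {W : X.Opens} (hW : IsAffineOpen W) :
    SchDom.Sep fun i => SchDom.appLin (u i) W := by
  intro f n hn
  have h0 : M1.mres F (X.basicOpen_le f) n = 0 := by
    refine h _ _ fun i => ?_
    show (u i).app _ _ = 0
    rw [M1.app_mres]
    obtain ⟨k, hk⟩ := hn i
    have hk' := congrArg (M1.mres (G i) (X.basicOpen_le f)) hk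
    rw [map_zero, M1.mres_smul, map_pow] at hk'
    have hu : IsUnit (X.presheaf.map (homOfLE (X.basicOpen_le f)).op f) :=
      RingedSpace.isUnit_res_basicOpen X.toRingedSpace f
    exact (hu.pow k).smul_eq_zero.1 hk'
  exact M1.exists_pow_smul_eq_zero_affine F hW f n h0

omit [Coh.IsQCoh F] [∀ i, Coh.IsQCoh (G i)] in
/-- Pullback is natural on pulled back sections. -/
theorem map_pullSec {X' : Scheme.{u}} (g : X' ⟶ X) {A B : X.Modules} (a : A ⟶ B) {W : X.Opens}
    (s : Γ(A, W)) :
    ((Scheme.Modules.pullback g).map a).app (g ⁻¹ᵁ W) (M2.pullSec g A s) = M2.pullSec g B (a.app W s) :=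
  (congrArg (fun φ => φ.app W s)
    ((Scheme.Modules.pullbackPushforwardAdjunction g).unit.naturality a)).symm

omit [∀ i, Coh.IsQCoh (G i)] in
/-- The pullback of a homomorphism in an affine chart. -/
theorem pullEquiv_natural {X' : Scheme.{u}} (g : X' ⟶ X) {H : X.Modules} (a : F ⟶ H) {W : X.Opens}
    {W' : X'.Opens} (e : W' ≤ g ⁻¹ᵁ W) :
    letI := (g.appLE W W' e).hom.toAlgebra
    ∀ (LF : Γ(X', W') ⊗[Γ(X, W)] Γ(F, W) ≃ₗ[Γ(X', W')] Γ((Scheme.Modules.pullback g).obj F, W'))
      (_ : ∀ s, LF ((1 : Γ(X', W')) ⊗ₜ s) = M1.mres _ e (M2.pullSec g F s))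
      (LH : Γ(X', W') ⊗[Γ(X, W)] Γ(H, W) ≃ₗ[Γ(X', W')] Γ((Scheme.Modules.pullback g).obj H, W'))
      (_ : ∀ s, LH ((1 : Γ(X', W')) ⊗ₜ s) = M1.mres _ e (M2.pullSec g H s)) z,
      ((Scheme.Modules.pullback g).map a).app W' (LF z) =
        LH ((SchDom.appLin a W).baseChange Γ(X', W') z) := by
  letI := (g.appLE W W' e).hom.toAlgebra
  intro LF hLF LH hLH z
  show SchDom.appLin ((Scheme.Modules.pullback g).map a) W' (LF z) = _
  induction z using TensorProduct.induction_on with
  | zero => simp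
  | add a b ha hb => simp only [map_add, ha, hb]
  | tmul t s =>
    rw [show t ⊗ₜ[Γ(X, W)] s = t • ((1 : Γ(X', W')) ⊗ₜ[Γ(X, W)] s) from by
      rw [TensorProduct.smul_tmul', smul_eq_mul, mul_one], map_smul, map_smul, map_smul, map_smul,
      LinearMap.baseChange_tmul, hLF, hLH]
    congr 1
    show ((Scheme.Modules.pullback g).map a).app W' (M1.mres _ e (M2.pullSec g F s)) = _
    rw [M1.app_mres, map_pullSec]
    rfl

/-- Separation of a pulled back family over an affine chart is an algebraic statement. -/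
theorem eq_zero_of_chart (u : ∀ i, F ⟶ G i) {X' : Scheme.{u}} (g : X' ⟶ X) {W : X.Opens}
    (hW : IsAffineOpen W) {W' : X'.Opens} (hW' : IsAffineOpen W') (e : W' ≤ g ⁻¹ᵁ W)
    (halg : letI := (g.appLE W W' e).hom.toAlgebra
      ∀ z : Γ(X', W') ⊗[Γ(X, W)] Γ(F, W),
        (∀ i, (SchDom.appLin (u i) W).baseChange Γ(X', W') z = 0) → z = 0)
    (t : Γ((Scheme.Modules.pullback g).obj F, W'))
    (ht : ∀ i, ((Scheme.Modules.pullback g).map (u i)).app W' t = 0) : t = 0 := by
  letI := (g.appLE W W' e).hom.toAlgebra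
  obtain ⟨LF, hLF⟩ := SchDom.exists_pullEquiv g F hW hW' e
  obtain ⟨z, rfl⟩ := LF.surjective t
  suffices z = 0 by rw [this, map_zero]
  refine halg z fun i => ?_
  obtain ⟨LG, hLG⟩ := SchDom.exists_pullEquiv g (G i) hW hW' e
  apply LG.injective
  rw [map_zero, ← pullEquiv_natural g (u i) e LF hLF LG hLG]
  exact ht i

/-- Separation of a pulled back family gives the algebraic statement on each affine chart. -/
theorem Separating.chart {u : ∀ i, F ⟶ G i} {X' : Scheme.{u}} {g : X' ⟶ X}
    (h : Separating fun i => (Scheme.Modules.pullback g).map (u i)) {W : X.Opens}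
    (hW : IsAffineOpen W) {W' : X'.Opens} (hW' : IsAffineOpen W') (e : W' ≤ g ⁻¹ᵁ W) :
    letI := (g.appLE W W' e).hom.toAlgebra
    ∀ z : Γ(X', W') ⊗[Γ(X, W)] Γ(F, W),
      (∀ i, (SchDom.appLin (u i) W).baseChange Γ(X', W') z = 0) → z = 0 := by
  letI := (g.appLE W W' e).hom.toAlgebra
  intro z hz
  obtain ⟨LF, hLF⟩ := SchDom.exists_pullEquiv g F hW hW' e
  apply LF.injective
  rw [map_zero]
  refine h W' _ fun i => ?_
  obtain ⟨LG, hLG⟩ := SchDom.exists_pullEquiv g (G i) hW hW' e
  show ((Scheme.Modules.pullback g).map (u i)).app W' (LF z) = 0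
  rw [pullEquiv_natural g (u i) e LF hLF LG hLG, hz i, map_zero]

/-- Separation of a pulled back family follows from the algebraic statement on affine charts. -/
theorem separating_pullback_of_charts (u : ∀ i, F ⟶ G i) {X' : Scheme.{u}} (g : X' ⟶ X)
    (halg : ∀ (W : X.Opens) (_ : IsAffineOpen W) (W' : X'.Opens) (_ : IsAffineOpen W') (e : W' ≤ g ⁻¹ᵁ W),
      letI := (g.appLE W W' e).hom.toAlgebra
      ∀ z : Γ(X', W') ⊗[Γ(X, W)] Γ(F, W),
        (∀ i, (SchDom.appLin (u i) W).baseChange Γ(X', W') z = 0) → z = 0) :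
    Separating fun i => (Scheme.Modules.pullback g).map (u i) := by
  refine separating_of_affine _ fun V x hx => ?_
  obtain ⟨W, hW, hxW, -⟩ := exists_isAffineOpen_mem_and_subset (X := X) (x := g x) (U := ⊤) trivial
  obtain ⟨W', hW', hxW', hle⟩ := exists_isAffineOpen_mem_and_subset (X := X') (x := x) (U := V ⊓ g ⁻¹ᵁ W)
    ⟨hx, hxW⟩
  exact ⟨W', hW', hle.trans inf_le_left, hxW', eq_zero_of_chart u g hW hW' (hle.trans inf_le_right)
    (halg W hW W' hW' _)⟩

section Alg

variable {R M : Type u} [CommRing R] [AddCommGroup M] [Module R M] {κ : Type u} {N : κ → Type u}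
  [∀ i, AddCommGroup (N i)] [∀ i, Module R (N i)]

/-- Flat base change keeps joint injectivity of a finite family. -/
theorem baseChange_eq_zero_of_finite [Finite κ] (S : Type u) [CommRing S] [Algebra R S] [Module.Flat R S]
    (φ : ∀ i, M →ₗ[R] N i) (hφ : ∀ m, (∀ i, φ i m = 0) → m = 0)
    (z : S ⊗[R] M) (hz : ∀ i, (φ i).baseChange S z = 0) : z = 0 := by
  classical
  cases nonempty_fintype κ
  have hinj : Function.Injective (LinearMap.pi φ) :=
    (injective_iff_map_eq_zero _).2 fun m hm => hφ m fun i => congrFun hm i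
  refine Module.Flat.lTensor_preserves_injective_linearMap (M := S) (LinearMap.pi φ) hinj ?_
  rw [map_zero]
  apply (TensorProduct.piRight R R S N).injective
  rw [map_zero]
  funext i
  refine Eq.trans ?_ (hz i)
  show (TensorProduct.piRight R R S N ((LinearMap.pi φ).lTensor S z)) i = _
  clear hz
  induction z using TensorProduct.induction_on with
  | zero => simp
  | add a b ha hb => simp only [map_add, Pi.add_apply, ha, hb]
  | tmul s m => simp

/-- Over an Artinian ring flat base change keeps joint injectivity of any family. -/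
theorem baseChange_eq_zero_of_artinian [IsArtinianRing R] (S : Type u) [CommRing S] [Algebra R S]
    [Module.Flat R S] (φ : ∀ i, M →ₗ[R] N i) (hφ : ∀ m, (∀ i, φ i m = 0) → m = 0)
    (z : S ⊗[R] M) (hz : ∀ i, (φ i).baseChange S z = 0) : z = 0 := by
  classical
  obtain ⟨T, hT⟩ := TensorProduct.exists_finset (R := R) z
  let M₀ := Submodule.span R ((T.image Prod.snd : Finset M) : Set M)
  haveI : Module.Finite R M₀ := Module.Finite.span_of_finite R (Finset.finite_toSet _)
  haveI : IsArtinian R M₀ := inferInstance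
  let ψ : ∀ i, M₀ →ₗ[R] N i := fun i => (φ i).comp M₀.subtype
  obtain ⟨s, hs⟩ := Finset.exists_inf_le fun i => LinearMap.ker (ψ i)
  have hψ : ∀ m, (∀ i : s, ψ i m = 0) → m = 0 := fun m hm =>
    Subtype.ext (hφ m fun i => hs i (Submodule.mem_finsetInf.2 fun j hj => hm ⟨j, hj⟩))
  let z₀ : S ⊗[R] M₀ := ∑ t ∈ T.attach, t.1.1 ⊗ₜ[R]
    (⟨t.1.2, Submodule.subset_span (Finset.mem_image_of_mem _ t.2)⟩ : M₀)
  have hz₀ : M₀.subtype.baseChange S z₀ = z := by
    rw [hT, map_sum, ← Finset.sum_attach T (fun t => t.1 ⊗ₜ[R] t.2)]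
    rfl
  rw [← hz₀, baseChange_eq_zero_of_finite (κ := s) S (fun i => ψ i) hψ z₀ fun i => ?_, map_zero]
  rw [LinearMap.baseChange_comp, LinearMap.comp_apply, hz₀]
  exact hz i

/-- Flat base change of finite presentation keeps a separating family jointly injective. -/
theorem baseChange_eq_zero_of_flat_fp (S : Type u) [CommRing S] [Algebra R S] [Module.Flat R S]
    [Algebra.FinitePresentation R S] (φ : ∀ i, M →ₗ[R] N i) (hφ : SchDom.Sep φ)
    (z : S ⊗[R] M) (hz : ∀ i, (φ i).baseChange S z = 0) : z = 0 := by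
  obtain ⟨R₀, C₀, _, _, hR, hfp, hflat, ⟨e⟩⟩ := Groth.Agent.FppfSource.exists_flat_model ℤ R S
  haveI : IsNoetherianRing R₀ := isNoetherianRing_of_fg hR
  let φ₀ : ∀ i, M →ₗ[R₀] N i := fun i => (φ i).restrictScalars R₀
  have hφ₀ : SchDom.Sep φ₀ := by
    intro f n hn
    obtain ⟨k, hk⟩ := hφ (algebraMap R₀ R f) n fun i => by
      obtain ⟨k, hk⟩ := hn i
      exact ⟨k, by rw [← map_pow, algebraMap_smul]; exact hk⟩
    exact ⟨k, by rw [← map_pow, algebraMap_smul] at hk; exact hk⟩
  let E : ∀ (P : Type u) [AddCommGroup P] [Module R P],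
      S ⊗[R] P ≃ₗ[R] P ⊗[R₀] C₀ := fun P _ _ =>
    (TensorProduct.comm R S P).trans ((TensorProduct.congr (LinearEquiv.refl R P) e.toLinearEquiv).trans
      (AlgebraTensorModule.cancelBaseChange R₀ R R P C₀))
  apply (E M).injective
  rw [map_zero]
  refine SchDom.eq_zero_of_sep (S := C₀) (M := C₀) (⊥ : Ideal R₀)
    (fun n r => by simp [(Submodule.mem_bot R₀).1 r.2]) φ₀ hφ₀ _ fun i => ?_
  rw [← map_zero (E (N i)), ← hz i]
  clear hz
  induction z using TensorProduct.induction_on with
  | zero => simp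
  | add a b ha hb => simp only [map_add, ha, hb]
  | tmul s m =>
    obtain ⟨w, rfl⟩ := e.symm.surjective s
    induction w using TensorProduct.induction_on with
    | zero => simp
    | add a b ha hb => simp only [map_add, add_tmul, ha, hb]
    | tmul r c => simp [E, φ₀]

/-- Joint injectivity after base change only depends on the algebra up to isomorphism. -/
theorem baseChange_eq_zero_congr {S T : Type u} [CommRing S] [CommRing T] [Algebra R S] [Algebra R T]
    (e : S ≃ₐ[R] T) (φ : ∀ i, M →ₗ[R] N i)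
    (h : ∀ z : S ⊗[R] M, (∀ i, (φ i).baseChange S z = 0) → z = 0)
    (z : T ⊗[R] M) (hz : ∀ i, (φ i).baseChange T z = 0) : z = 0 := by
  let E : ∀ (P : Type u) [AddCommGroup P] [Module R P], T ⊗[R] P ≃ₗ[R] S ⊗[R] P :=
    fun P _ _ => TensorProduct.congr e.symm.toLinearEquiv (LinearEquiv.refl R P)
  apply (E M).injective
  rw [map_zero]
  refine h _ fun i => ?_
  rw [← map_zero (E (N i)), ← hz i]
  clear hz
  induction z using TensorProduct.induction_on with
  | zero => simp
  | add a b ha hb => simp only [map_add, ha, hb]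
  | tmul s m => simp [E]

end Alg

/-- Membership in a basic open of an affine open. -/
theorem mem_basicOpen_iff {U : X.Opens} (hU : IsAffineOpen U) (g : Γ(X, U)) {z : X} (hz : z ∈ U) :
    z ∈ X.basicOpen g ↔ g ∉ (hU.primeIdealOf ⟨z, hz⟩).asIdeal := by
  have h2 : hU.fromSpec (hU.primeIdealOf ⟨z, hz⟩) = z := hU.fromSpec_primeIdealOf _
  conv_lhs => rw [← h2]
  show hU.primeIdealOf ⟨z, hz⟩ ∈ hU.fromSpec ⁻¹ᵁ X.basicOpen g ↔ _
  rw [hU.fromSpec_preimage_basicOpen]
  rfl

end Groth.Agent.SepMod5
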