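import Groth.Agent.Lib.SepMod5.Basic
import Groth.Agent.Lib.SchDom.Glue

/-!
# Separating families and base change over an affine base
-/

set_option autoImplicit false
set_option backward.isDefEq.respectTransparency.types false

universe u

open AlgebraicGeometry CategoryTheory Limits TensorProduct
open Groth.Agent

namespace Groth.Agent.SepMod5

/-- The structure map of an affine open over an affine base. -/
noncomputable def baseMap {X : Scheme.{u}} {k : CommRingCat.{u}} (p : X ⟶ Spec k) {W : X.Opens}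
    (hW : IsAffineOpen W) : k ⟶ Γ(X, W) :=
  Spec.preimage (hW.fromSpec ≫ p)

/-- The algebra structure of an affine open over an affine base. -/
@[reducible] noncomputable def baseAlg {X : Scheme.{u}} {k : CommRingCat.{u}} (p : X ⟶ Spec k) {W : X.Opens}
    (hW : IsAffineOpen W) : Algebra k Γ(X, W) :=
  (baseMap p hW).hom.toAlgebra

/-- The sections over the range of an affine chart. -/
theorem nonempty_algEquiv_of_chart {P X : Scheme.{u}} (g : P ⟶ X) {W : X.Opens} (hW : IsAffineOpen W)
    {L : Type u} [CommRing L] [Algebra Γ(X, W) L] (jh : Spec (CommRingCat.of L) ⟶ P) [IsOpenImmersion jh]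
    (hfst : jh ≫ g = Spec.map (CommRingCat.ofHom (algebraMap Γ(X, W) L)) ≫ hW.fromSpec)
    (e : jh.opensRange ≤ g ⁻¹ᵁ W) :
    letI := (g.appLE W jh.opensRange e).hom.toAlgebra
    Nonempty (L ≃ₐ[Γ(X, W)] Γ(P, jh.opensRange)) := by
  letI := (g.appLE W jh.opensRange e).hom.toAlgebra
  have htop : (⊤ : (Spec (CommRingCat.of L)).Opens) ≤ jh ⁻¹ᵁ jh.opensRange := fun z _ => ⟨z, rfl⟩
  let ψ : Γ(P, jh.opensRange) →+* L :=
    ((Scheme.ΓSpecIso (CommRingCat.of L)).hom.hom).comp (jh.appLE jh.opensRange ⊤ htop).hom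
  have hψ : Function.Bijective ψ :=
    ((ConcreteCategory.bijective_of_isIso (Scheme.ΓSpecIso (CommRingCat.of L)).hom)).comp
      (SchDom.appLE_opensRange_bijective jh htop)
  have hcomm : ∀ a : Γ(X, W), ψ (g.appLE W jh.opensRange e a) = algebraMap Γ(X, W) L a := by
    intro a
    show (Scheme.ΓSpecIso (CommRingCat.of L)).hom (jh.appLE jh.opensRange ⊤ htop
      (g.appLE W jh.opensRange e a)) = _
    rw [← CommRingCat.comp_apply (g.appLE W jh.opensRange e), Scheme.Hom.appLE_comp_appLE]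
    have key : ∀ (b : Spec (CommRingCat.of L) ⟶ X)
        (_ : b = Spec.map (CommRingCat.ofHom (algebraMap Γ(X, W) L)) ≫ hW.fromSpec)
        (hb : ⊤ ≤ b ⁻¹ᵁ W), b.appLE W ⊤ hb a =
          (Scheme.ΓSpecIso (CommRingCat.of L)).inv (algebraMap Γ(X, W) L a) := by
      rintro _ rfl hb
      exact SchDom.appLE_specMap_fromSpec hW _ hb a
    rw [key _ hfst, Iso.inv_hom_id_apply]
  exact ⟨(AlgEquiv.ofBijective ({ ψ with commutes' := hcomm } :
    Γ(P, jh.opensRange) →ₐ[Γ(X, W)] L) hψ).symm⟩

/-- Small affine neighbourhoods in a fibre product over an affine base. -/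
theorem exists_base_chart {X S' : Scheme.{u}} {k : CommRingCat.{u}} (p : X ⟶ Spec k) (q : S' ⟶ Spec k)
    {W : X.Opens} (hW : IsAffineOpen W) (B : CommRingCat.{u}) (β : k ⟶ B) (uB : Spec B ⟶ S')
    [IsOpenImmersion uB] (hB : uB ≫ q = Spec.map β)
    {V : (pullback p q).Opens} {x} (hxV : x ∈ V) (hxW : pullback.fst p q x ∈ W)
    (hxB : pullback.snd p q x ∈ Set.range uB) :
    letI := baseAlg p hW
    letI := β.hom.toAlgebra
    ∃ (W' : (pullback p q).Opens) (_ : IsAffineOpen W') (e : W' ≤ pullback.fst p q ⁻¹ᵁ W),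
      W' ≤ V ∧ x ∈ W' ∧
      letI := ((pullback.fst p q).appLE W W' e).hom.toAlgebra
      ∃ h : Γ(X, W) ⊗[k] B, Nonempty (Localization.Away h ≃ₐ[Γ(X, W)] Γ(pullback p q, W')) := by
  letI algA := baseAlg p hW
  letI algB := β.hom.toAlgebra
  let T := Γ(X, W) ⊗[k] B
  let jm : pullback (Spec.map (CommRingCat.ofHom (algebraMap k Γ(X, W))))
      (Spec.map (CommRingCat.ofHom (algebraMap k B))) ⟶ pullback p q :=
    pullback.map _ _ p q hW.fromSpec uB (𝟙 _)
      ((Category.comp_id _).trans (Spec.map_preimage _))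
      ((Category.comp_id _).trans hB.symm)
  let j : Spec (CommRingCat.of T) ⟶ pullback p q :=
    (pullbackSpecIso k Γ(X, W) B).inv ≫ jm
  obtain ⟨y, hy⟩ : x ∈ Set.range j := by
    have hz0 : x ∈ Set.range jm := by
      rw [Scheme.Pullback.range_map, hW.range_fromSpec]
      exact ⟨hxW, hxB⟩
    obtain ⟨z, hz⟩ := hz0
    refine ⟨(pullbackSpecIso k Γ(X, W) B).hom z, ?_⟩
    show jm ((pullbackSpecIso k Γ(X, W) B).inv ((pullbackSpecIso k Γ(X, W) B).hom z)) = x
    rw [← Scheme.Hom.comp_apply (pullbackSpecIso k Γ(X, W) B).hom, Iso.hom_inv_id]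
    exact hz
  obtain ⟨_, ⟨_, ⟨h, rfl⟩, rfl⟩, hyh, hhV⟩ :=
    PrimeSpectrum.isBasis_basic_opens.exists_subset_of_mem_open
      (show y ∈ j ⁻¹' (V : Set _) by show j y ∈ V; rw [hy]; exact hxV) (V.2.preimage j.continuous)
  let L := Localization.Away h
  let jh : Spec (CommRingCat.of L) ⟶ pullback p q :=
    Spec.map (CommRingCat.ofHom (algebraMap T L)) ≫ j
  haveI : IsOpenImmersion (Spec.map (CommRingCat.ofHom (algebraMap T L))) :=
    IsOpenImmersion.of_isLocalization h
  have hrange : ∀ z, jh z ∈ V := fun z => by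
    have : Spec.map (CommRingCat.ofHom (algebraMap T L)) z ∈
        Set.range (PrimeSpectrum.comap (algebraMap T L)) := ⟨z, rfl⟩
    rw [PrimeSpectrum.localization_away_comap_range L h] at this
    exact hhV this
  have hxjh : x ∈ jh.opensRange := by
    have : y ∈ Set.range (PrimeSpectrum.comap (algebraMap T L)) := by
      rw [PrimeSpectrum.localization_away_comap_range L h]; exact hyh
    obtain ⟨z, hz⟩ := this
    exact ⟨z, by rw [← hy, ← hz]; rfl⟩
  have hfst : jh ≫ pullback.fst p q = Spec.map (CommRingCat.ofHom (algebraMap Γ(X, W) L)) ≫ hW.fromSpec := by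
    show (Spec.map _ ≫ (pullbackSpecIso k Γ(X, W) B).inv ≫ jm) ≫ pullback.fst p q = _
    simp only [Category.assoc, jm, pullback.lift_fst]
    rw [← Category.assoc (pullbackSpecIso k Γ(X, W) B).inv, pullbackSpecIso_inv_fst,
      ← Category.assoc, ← Spec.map_comp]
    congr 1
  have e : jh.opensRange ≤ pullback.fst p q ⁻¹ᵁ W := by
    rintro _ ⟨z, rfl⟩
    show pullback.fst p q (jh z) ∈ W
    rw [← Scheme.Hom.comp_apply, hfst, Scheme.Hom.comp_apply]
    exact hW.range_fromSpec.subset ⟨_, rfl⟩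
  refine ⟨jh.opensRange, isAffineOpen_opensRange jh, e, by rintro _ ⟨z, rfl⟩; exact hrange z, hxjh, ?_⟩
  exact ⟨h, nonempty_algEquiv_of_chart (pullback.fst p q) hW jh hfst e⟩

/-- Separation after base change over an affine base, checked on the standard charts. -/
theorem separating_pullback_of_base {X S' : Scheme.{u}} {k : CommRingCat.{u}} (p : X ⟶ Spec k)
    (q : S' ⟶ Spec k) {F : X.Modules} [Coh.IsQCoh F] {ι : Type u} {G : ι → X.Modules}
    [∀ i, Coh.IsQCoh (G i)] (u : ∀ i, F ⟶ G i)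
    (charts : ∀ y : S', ∃ (B : CommRingCat.{u}) (β : k ⟶ B) (uB : Spec B ⟶ S'), IsOpenImmersion uB ∧
      uB ≫ q = Spec.map β ∧ y ∈ Set.range uB ∧
      ∀ (W : X.Opens) (hW : IsAffineOpen W),
        letI := baseAlg p hW
        letI := β.hom.toAlgebra
        ∀ (h : Γ(X, W) ⊗[k] B) (z : Localization.Away h ⊗[Γ(X, W)] Γ(F, W)),
          (∀ i, (SchDom.appLin (u i) W).baseChange (Localization.Away h) z = 0) → z = 0) :
    Separating fun i => (Scheme.Modules.pullback (pullback.fst p q)).map (u i) := by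
  refine separating_of_affine _ fun V x hx => ?_
  obtain ⟨W, hW, hxW, -⟩ := exists_isAffineOpen_mem_and_subset (X := X)
    (x := pullback.fst p q x) (U := ⊤) trivial
  obtain ⟨B, β, uB, hou, hB, hxB, halg⟩ := charts (pullback.snd p q x)
  letI := baseAlg p hW
  letI := β.hom.toAlgebra
  obtain ⟨W', hW', e, hle, hxW', h, ⟨E⟩⟩ := exists_base_chart p q hW B β uB hB hx hxW hxB
  refine ⟨W', hW', hle, hxW', eq_zero_of_chart u _ hW hW' e ?_⟩
  letI := ((pullback.fst p q).appLE W W' e).hom.toAlgebra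
  exact fun z hz => baseChange_eq_zero_congr (R := Γ(X, W)) E _ (halg W hW h) z hz

/-- Separation of a base change gives the algebraic statement on the standard charts. -/
theorem Separating.base_chart {X S' : Scheme.{u}} {k : CommRingCat.{u}} {p : X ⟶ Spec k}
    {q : S' ⟶ Spec k} {F : X.Modules} [Coh.IsQCoh F] {ι : Type u} {G : ι → X.Modules}
    [∀ i, Coh.IsQCoh (G i)] {u : ∀ i, F ⟶ G i}
    (hsep : Separating fun i => (Scheme.Modules.pullback (pullback.fst p q)).map (u i))
    {W : X.Opens} (hW : IsAffineOpen W) (B : Type u) [CommRing B] [Algebra k B] (uB : Spec (CommRingCat.of B) ⟶ S')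
    [IsOpenImmersion uB] (hB : uB ≫ q = Spec.map (CommRingCat.ofHom (algebraMap k B))) :
    letI := baseAlg p hW
    ∀ (h : Γ(X, W) ⊗[k] B) (z : Localization.Away h ⊗[Γ(X, W)] Γ(F, W)),
      (∀ i, (SchDom.appLin (u i) W).baseChange (Localization.Away h) z = 0) → z = 0 := by
  letI algA := baseAlg p hW
  intro h z hz
  let T := Γ(X, W) ⊗[k] B
  let j : Spec (CommRingCat.of T) ⟶ pullback p q :=
    (pullbackSpecIso k Γ(X, W) B).inv ≫ pullback.map _ _ p q hW.fromSpec uB (𝟙 _)
      ((Category.comp_id _).trans (Spec.map_preimage _))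
      ((Category.comp_id _).trans hB.symm)
  let L := Localization.Away h
  let jh : Spec (CommRingCat.of L) ⟶ pullback p q :=
    Spec.map (CommRingCat.ofHom (algebraMap T L)) ≫ j
  haveI : IsOpenImmersion (Spec.map (CommRingCat.ofHom (algebraMap T L))) :=
    IsOpenImmersion.of_isLocalization h
  have hfst : jh ≫ pullback.fst p q = Spec.map (CommRingCat.ofHom (algebraMap Γ(X, W) L)) ≫ hW.fromSpec := by
    simp only [jh, j, Category.assoc, pullback.lift_fst]
    rw [← Category.assoc (pullbackSpecIso k Γ(X, W) B).inv, pullbackSpecIso_inv_fst,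
      ← Category.assoc, ← Spec.map_comp]
    congr 1
  have e : jh.opensRange ≤ pullback.fst p q ⁻¹ᵁ W := by
    rintro _ ⟨z, rfl⟩
    show pullback.fst p q (jh z) ∈ W
    rw [← Scheme.Hom.comp_apply, hfst, Scheme.Hom.comp_apply]
    exact hW.range_fromSpec.subset ⟨_, rfl⟩
  letI := ((pullback.fst p q).appLE W jh.opensRange e).hom.toAlgebra
  obtain ⟨E⟩ := nonempty_algEquiv_of_chart (pullback.fst p q) hW jh hfst e
  exact baseChange_eq_zero_congr (R := Γ(X, W)) E.symm _
    (Separating.chart hsep hW (isAffineOpen_opensRange jh) e) z hz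

end Groth.Agent.SepMod5
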