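import Groth.Agent.Lib.SepMod5.FibreMod
import Groth.Agent.Lib.FlatH4.FlatComp
import Mathlib.RingTheory.IsTensorProduct

/-!
# Fibrewise criterion for universally separating families
-/

set_option autoImplicit false
set_option maxHeartbeats 1000000

universe u

open TensorProduct

attribute [local instance] Algebra.TensorProduct.rightAlgebra

namespace Groth.Agent.SepMod5

section EK

variable {A C : Type u} [CommRing A] [CommRing C] [Algebra A C] (B K : Type u) [CommRing B] [Algebra A B]
  [CommRing K] [Algebra A K] [Algebra B K] [IsScalarTower A B K]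
  (P : Type u) [AddCommGroup P] [Module A P] [Module C P] [IsScalarTower A C P]

/-- The base change of `(C ⊗ B) ⊗ P` to `K` is `(C ⊗ K) ⊗ P`. -/
noncomputable def toFibre :
    ((C ⊗[A] B) ⊗[C] P) ⊗[B] K ≃ₗ[A] (C ⊗[A] K) ⊗[C] P :=
  haveI : Algebra.IsPushout A B C (C ⊗[A] B) := Algebra.IsPushout.symm inferInstance
  haveI : Algebra.IsPushout A K C (C ⊗[A] K) := Algebra.IsPushout.symm inferInstance
  ((TensorProduct.comm B _ K).trans
    ((TensorProduct.congr (LinearEquiv.refl B K) (Algebra.IsPushout.cancelBaseChange A B C (C ⊗[A] B) P)).trans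
      ((AlgebraTensorModule.cancelBaseChange A B B K P)))).restrictScalars A ≪≫ₗ
    ((Algebra.IsPushout.cancelBaseChange A K C (C ⊗[A] K) P).symm.restrictScalars A)

theorem toFibre_tmul (c : C) (b : B) (m : P) (k : K) :
    toFibre B K P (((c ⊗ₜ[A] b) ⊗ₜ[C] m) ⊗ₜ[B] k) = (c ⊗ₜ[A] (b • k)) ⊗ₜ[C] m := by
  haveI : Algebra.IsPushout A B C (C ⊗[A] B) := Algebra.IsPushout.symm inferInstance
  haveI : Algebra.IsPushout A K C (C ⊗[A] K) := Algebra.IsPushout.symm inferInstance
  have h1 : Algebra.IsPushout.cancelBaseChange A B C (C ⊗[A] B) P ((c ⊗ₜ[A] b) ⊗ₜ[C] m) = b ⊗ₜ[A] (c • m) := by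
    rw [show (c ⊗ₜ[A] b) = c • ((1 : C) ⊗ₜ[A] b) by rw [TensorProduct.smul_tmul', smul_eq_mul, mul_one],
      TensorProduct.smul_tmul,
      show ((1 : C) ⊗ₜ[A] b) = algebraMap B (C ⊗[A] B) b from rfl, Algebra.algebraMap_eq_smul_one,
      ← TensorProduct.smul_tmul', map_smul, Algebra.IsPushout.cancelBaseChange_tmul,
      TensorProduct.smul_tmul', smul_eq_mul, mul_one]
  simp only [toFibre, LinearEquiv.trans_apply, LinearEquiv.restrictScalars_apply, TensorProduct.comm_tmul,
    TensorProduct.congr_tmul, LinearEquiv.refl_apply]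
  rw [h1, AlgebraTensorModule.cancelBaseChange_tmul, Algebra.IsPushout.cancelBaseChange_symm_tmul,
    show algebraMap K (C ⊗[A] K) (b • k) = (1 : C) ⊗ₜ[A] (b • k) from rfl, ← TensorProduct.smul_tmul,
    TensorProduct.smul_tmul', smul_eq_mul, mul_one]

/-- The change of coefficients. -/
noncomputable def coeffMap : C ⊗[A] B →ₐ[C] C ⊗[A] K :=
  Algebra.TensorProduct.map (AlgHom.id C C) (IsScalarTower.toAlgHom A B K)

theorem toFibre_smul (t : C ⊗[A] B) (w : ((C ⊗[A] B) ⊗[C] P) ⊗[B] K) :
    toFibre B K P (t • w) = coeffMap B K t • toFibre B K P w := by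
  induction w using TensorProduct.induction_on with
  | zero => simp
  | add a b ha hb => simp only [smul_add, map_add, ha, hb]
  | tmul y k =>
    induction y using TensorProduct.induction_on with
    | zero => simp
    | add a b ha hb =>
      simp only [TensorProduct.add_tmul, smul_add, map_add, ha, hb]
    | tmul s m =>
      induction s using TensorProduct.induction_on with
      | zero => simp
      | add a b ha hb => simp only [TensorProduct.add_tmul, smul_add, map_add, ha, hb]
      | tmul c b =>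
        induction t using TensorProduct.induction_on with
        | zero => simp
        | add a b ha hb => simp only [add_smul, map_add, ha, hb]
        | tmul c' b' =>
          rw [TensorProduct.smul_tmul', TensorProduct.smul_tmul', smul_eq_mul,
            Algebra.TensorProduct.tmul_mul_tmul, toFibre_tmul, toFibre_tmul, TensorProduct.smul_tmul',
            show coeffMap B K (c' ⊗ₜ[A] b') = c' ⊗ₜ[A] algebraMap B K b' from rfl, smul_eq_mul,
            Algebra.TensorProduct.tmul_mul_tmul, Algebra.smul_def, Algebra.smul_def, map_mul, mul_assoc]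

variable {P} in
theorem toFibre_natural {Q : Type u} [AddCommGroup Q] [Module A Q] [Module C Q] [IsScalarTower A C Q]
    (f : P →ₗ[C] Q) (w : ((C ⊗[A] B) ⊗[C] P) ⊗[B] K) :
    toFibre B K Q (((f.baseChange (C ⊗[A] B)).restrictScalars B).rTensor K w) =
      f.baseChange (C ⊗[A] K) (toFibre B K P w) := by
  induction w using TensorProduct.induction_on with
  | zero => simp
  | add a b ha hb => simp only [map_add, ha, hb]
  | tmul y k =>
    induction y using TensorProduct.induction_on with
    | zero => simp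
    | add a b ha hb => simp only [TensorProduct.add_tmul, map_add, ha, hb]
    | tmul s m =>
      induction s using TensorProduct.induction_on with
      | zero => simp
      | add a b ha hb => simp only [TensorProduct.add_tmul, map_add, ha, hb]
      | tmul c b => simp [toFibre_tmul]

end EK

section Main

variable {A C : Type u} [CommRing A] [CommRing C] [Algebra A C] [IsNoetherianRing C]
  {M : Type u} [AddCommGroup M] [Module C M] [Module.Finite C M]
  {κ : Type u} {N : κ → Type u} [∀ i, AddCommGroup (N i)] [∀ i, Module C (N i)]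
  [∀ i, Module A (N i)] [∀ i, IsScalarTower A C (N i)] [∀ i, Module.Flat A (N i)]
  (φ : ∀ i, M →ₗ[C] N i)

/-- The stage of finite type. -/
theorem eq_zero_stage
    (hfield : ∀ (K : Type u) [Field K] [Algebra A K] (h : C ⊗[A] K) (w : (C ⊗[A] K) ⊗[C] M),
      (∀ i, ∃ l : ℕ, h ^ l • (φ i).baseChange (C ⊗[A] K) w = 0) → ∃ l : ℕ, h ^ l • w = 0)
    (B₀ : Type u) [CommRing B₀] [Algebra A B₀] [Algebra.FiniteType A B₀] (h₀ : C ⊗[A] B₀)
    (y : Localization.Away h₀ ⊗[C] M) (hy : ∀ i, (φ i).baseChange (Localization.Away h₀) y = 0) : y = 0 := by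
  letI : Module A M := Module.compHom M (algebraMap A C)
  haveI : IsScalarTower A C M := IsScalarTower.of_algebraMap_smul fun _ _ => rfl
  let T₀ := C ⊗[A] B₀
  let L₀ := Localization.Away h₀
  haveI : IsNoetherianRing T₀ := Algebra.FiniteType.isNoetherianRing C T₀
  haveI : IsNoetherianRing L₀ := IsLocalization.isNoetherianRing (Submonoid.powers h₀) L₀ inferInstance
  haveI : Module.Flat T₀ L₀ := IsLocalization.flat L₀ (Submonoid.powers h₀)
  haveI : Algebra.IsPushout A B₀ C T₀ := Algebra.IsPushout.symm inferInstance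
  haveI : ∀ i, Module.Flat B₀ (T₀ ⊗[C] N i) := fun i =>
    Module.Flat.of_linearEquiv (Algebra.IsPushout.cancelBaseChange A B₀ C T₀ (N i))
  haveI : ∀ i, Module.Flat B₀ (L₀ ⊗[C] N i) := fun i =>
    haveI : Module.Flat B₀ (L₀ ⊗[T₀] (T₀ ⊗[C] N i)) :=
      FlatH4.flat_tensor_of_flat (A := B₀) (B := T₀) (C := L₀) (M := T₀ ⊗[C] N i)
    Module.Flat.of_linearEquiv
      ((AlgebraTensorModule.cancelBaseChange C T₀ L₀ L₀ (N i)).restrictScalars B₀).symm
  refine eq_zero_of_fibre_mod L₀ (fun i => ((φ i).baseChange L₀).restrictScalars B₀) ?_ y hy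
  intro P _ x hx
  let K := P.ResidueField
  let loc : ∀ (Q : Type u) [AddCommGroup Q] [Module C Q],
      ((T₀ ⊗[C] Q) ⊗[B₀] K →ₗ[T₀] (L₀ ⊗[C] Q) ⊗[B₀] K) := fun Q _ _ =>
    AlgebraTensorModule.rTensor B₀ K (locMap C T₀ L₀ Q)
  haveI hLM : ∀ (Q : Type u) [AddCommGroup Q] [Module C Q],
      IsLocalizedModule (Submonoid.powers h₀) (locMap C T₀ L₀ Q) := fun Q _ _ => by
    haveI : IsLocalizedModule (Submonoid.powers h₀) (Algebra.linearMap T₀ L₀) :=
      isLocalizedModule_iff_isLocalization.2 (by
        rw [Algebra.algebraMapSubmonoid, show algebraMap T₀ T₀ = RingHom.id T₀ from rfl]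
        exact (Submonoid.map_id (Submonoid.powers h₀)).symm ▸
          (inferInstance : IsLocalization (Submonoid.powers h₀) L₀))
    infer_instance
  haveI : ∀ (Q : Type u) [AddCommGroup Q] [Module C Q],
      IsLocalizedModule (Submonoid.powers h₀) (loc Q) := fun Q _ _ => inferInstance
  apply (TensorProduct.comm B₀ K (L₀ ⊗[C] M)).injective
  rw [map_zero]
  obtain ⟨⟨v, ⟨_, n, rfl⟩⟩, hn⟩ := IsLocalizedModule.surj (Submonoid.powers h₀) (loc M)
    (TensorProduct.comm B₀ K (L₀ ⊗[C] M) x)
  change h₀ ^ n • TensorProduct.comm B₀ K (L₀ ⊗[C] M) x = loc M v at hn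
  have hnat : ∀ i (v : (T₀ ⊗[C] M) ⊗[B₀] K),
      loc (N i) ((((φ i).baseChange T₀).restrictScalars B₀).rTensor K v) =
        (((φ i).baseChange L₀).restrictScalars B₀).rTensor K (loc M v) := by
    intro i v
    induction v using TensorProduct.induction_on with
    | zero => simp
    | add a b ha hb => simp only [map_add, ha, hb]
    | tmul a k =>
      show locMap C T₀ L₀ (N i) ((φ i).baseChange T₀ a) ⊗ₜ[B₀] k = _
      rw [locMap_lTensor]
      rfl
  have hsm : ∀ i (t : T₀) (z : (L₀ ⊗[C] M) ⊗[B₀] K),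
      (((φ i).baseChange L₀).restrictScalars B₀).rTensor K (t • z) =
        t • (((φ i).baseChange L₀).restrictScalars B₀).rTensor K z := fun i t z =>
    map_smul (AlgebraTensorModule.rTensor B₀ K (((φ i).baseChange L₀).restrictScalars T₀)) t z
  have hc : ∀ i, (((φ i).baseChange L₀).restrictScalars B₀).rTensor K
      (TensorProduct.comm B₀ K (L₀ ⊗[C] M) x) = 0 := fun i => by
    have h1 : ∀ x, (((φ i).baseChange L₀).restrictScalars B₀).rTensor K
        (TensorProduct.comm B₀ K (L₀ ⊗[C] M) x) = TensorProduct.comm B₀ K (L₀ ⊗[C] N i)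
          ((((φ i).baseChange L₀).restrictScalars B₀).lTensor K x) := fun x => by
      induction x using TensorProduct.induction_on with
      | zero => simp
      | add a b ha hb => simp only [map_add, ha, hb]
      | tmul k a => simp
    rw [h1, hx i, map_zero]
  have hK : ∀ i, ∃ l : ℕ, coeffMap B₀ K h₀ ^ l •
      (φ i).baseChange (C ⊗[A] K) (toFibre B₀ K M v) = 0 := by
    intro i
    obtain ⟨⟨_, l, rfl⟩, hl⟩ := (IsLocalizedModule.eq_zero_iff (Submonoid.powers h₀) (loc (N i))).1
      (show loc (N i) ((((φ i).baseChange T₀).restrictScalars B₀).rTensor K v) = 0 by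
        rw [hnat, ← hn, hsm, hc i]; exact smul_zero _)
    refine ⟨l, ?_⟩
    rw [← toFibre_natural, ← map_pow, ← toFibre_smul]
    exact (congrArg (toFibre B₀ K (N i)) hl).trans (map_zero _)
  obtain ⟨l, hl⟩ := hfield K (coeffMap B₀ K h₀) (toFibre B₀ K M v) hK
  rw [← map_pow, ← toFibre_smul, LinearEquiv.map_eq_zero_iff] at hl
  have h2 := congrArg (loc M) hl
  rw [map_smul, ← hn, map_zero, ← mul_smul, ← pow_add] at h2
  have hu : IsUnit (algebraMap T₀ L₀ h₀) := IsLocalization.Away.algebraMap_isUnit h₀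
  refine pow_smul_eq_zero_of_isUnit (T := L₀) (P := (L₀ ⊗[C] M) ⊗[B₀] K) hu (n := l + n) ?_
  rw [← map_pow, algebraMap_smul]
  exact h2


/-- A family which separates on all fibres separates after every base change. -/
theorem baseChange_eq_zero_of_fibres
    (hfield : ∀ (K : Type u) [Field K] [Algebra A K] (h : C ⊗[A] K) (w : (C ⊗[A] K) ⊗[C] M),
      (∀ i, ∃ l : ℕ, h ^ l • (φ i).baseChange (C ⊗[A] K) w = 0) → ∃ l : ℕ, h ^ l • w = 0)
    (A' : Type u) [CommRing A'] [Algebra A A'] (h : C ⊗[A] A') (z : Localization.Away h ⊗[C] M)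
    (hz : ∀ i, (φ i).baseChange (Localization.Away h) z = 0) : z = 0 := by
  letI : Module A M := Module.compHom M (algebraMap A C)
  haveI : IsScalarTower A C M := IsScalarTower.of_algebraMap_smul fun _ _ => rfl
  obtain ⟨n, w, hw⟩ := exists_pow_smul_eq_locMap (T := C ⊗[A] A') h z
  obtain ⟨B₀, hfg, h₀, w₀, hh₀, hw₀⟩ := exists_fg_lift (k := A) h w
  haveI : Algebra.FiniteType A B₀ := B₀.fg_iff_finiteType.1 hfg
  refine eq_zero_of_stage (Algebra.TensorProduct.map (AlgHom.id C C) B₀.val) φ
    (fun i => rTensor_val_injective_of_flat (k := A) (A := C) B₀ (N i)) h₀ ?_ hh₀ w₀ z n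
    (by rw [hw₀]; exact hw) hz
  intro y hy
  exact eq_zero_stage φ hfield B₀ h₀ y hy

end Main

end Groth.Agent.SepMod5
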