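import Groth.Agent.Lib.SepMod5.Stage
import Groth.Agent.Lib.SchDom.FibreCrit

/-!
# Fibrewise criterion for separating families of module maps (Noetherian source)
-/

set_option autoImplicit false

universe u

open TensorProduct

namespace Groth.Agent.SepMod5

variable {A B : Type u} [CommRing A] [CommRing B] [Algebra A B] [IsNoetherianRing B]
  {M : Type u} [AddCommGroup M] [Module A M] [Module B M] [IsScalarTower A B M] [Module.Finite B M]
  {κ : Type u} {N : κ → Type u} [∀ i, AddCommGroup (N i)] [∀ i, Module A (N i)]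

omit [IsNoetherianRing B] [Module.Finite B M] in
/-- Vanishing in the fibre at `p`. -/
theorem exists_smul_mem_smul_top_of_one_tmul (p : Ideal A) [p.IsPrime] (x : M)
    (hx : (1 : p.ResidueField) ⊗ₜ[A] x = 0) : ∃ a ∉ p, a • x ∈ p • (⊤ : Submodule A M) := by
  have heq : Algebra.algebraMapSubmonoid (A ⧸ p) p.primeCompl = nonZeroDivisors (A ⧸ p) := by
    ext y
    rw [mem_nonZeroDivisors_iff_ne_zero]
    constructor
    · rintro ⟨a, ha, rfl⟩ h0
      exact ha (Ideal.Quotient.eq_zero_iff_mem.1 h0)
    · intro hy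
      obtain ⟨a, rfl⟩ := Ideal.Quotient.mk_surjective y
      exact ⟨a, fun ha => hy (Ideal.Quotient.eq_zero_iff_mem.2 ha), rfl⟩
  haveI : IsLocalization (Algebra.algebraMapSubmonoid (A ⧸ p) p.primeCompl) p.ResidueField := by
    rw [heq]; exact inferInstanceAs (IsFractionRing (A ⧸ p) p.ResidueField)
  haveI : IsLocalizedModule p.primeCompl (IsScalarTower.toAlgHom A (A ⧸ p) p.ResidueField).toLinearMap :=
    isLocalizedModule_iff_isLocalization.2 ‹_›
  have h0 : (IsScalarTower.toAlgHom A (A ⧸ p) p.ResidueField).toLinearMap.rTensor M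
      ((1 : A ⧸ p) ⊗ₜ[A] x) = 0 := by
    rw [LinearMap.rTensor_tmul, AlgHom.toLinearMap_apply, map_one]; exact hx
  obtain ⟨⟨a, ha⟩, hax⟩ := (IsLocalizedModule.eq_zero_iff p.primeCompl
    (AlgebraTensorModule.rTensor A M (IsScalarTower.toAlgHom A (A ⧸ p) p.ResidueField).toLinearMap)).1 h0
  refine ⟨a, ha, (FlatH4.one_tmul_eq_zero_iff p _).1 ?_⟩
  rw [tmul_smul]
  exact hax

variable (B) [∀ i, Module.Flat A (N i)]

include B in
/-- Fibrewise joint injectivity gives joint injectivity modulo every ideal of the base. -/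
theorem mem_smul_top_of_fibre (φ : ∀ i, M →ₗ[A] N i)
    (hf : ∀ (p : Ideal A) [p.IsPrime] (x : p.ResidueField ⊗[A] M),
      (∀ i, (φ i).lTensor p.ResidueField x = 0) → x = 0)
    (I : Ideal A) (x : M) (hx : ∀ i, φ i x ∈ I • (⊤ : Submodule A (N i))) :
    x ∈ I • (⊤ : Submodule A M) := by
  suffices ∀ (J : Submodule B M) (I : Ideal A), I • (⊤ : Submodule A M) = J.restrictScalars A →
      ∀ x : M, (∀ i, φ i x ∈ I • (⊤ : Submodule A (N i))) → x ∈ J by
    have h := Ideal.smul_restrictScalars (S := B) I (⊤ : Submodule B M)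
    rw [Submodule.restrictScalars_top] at h
    rw [← h]
    exact this _ I h.symm x hx
  clear hx x I
  intro J
  induction J using WellFoundedGT.induction with
  | _ J ih =>
  intro I₀ hI₀ x hx₀
  -- replace the ideal by the largest one with the same image
  let I : Ideal A := (J.colon Set.univ).comap (algebraMap A B)
  have hmemI : ∀ a : A, a ∈ I ↔ ∀ m : M, a • m ∈ J := fun a => by
    simp only [I, Ideal.mem_comap, Submodule.mem_colon, Set.mem_univ, forall_const, algebraMap_smul]
  have hle₀ : I₀ ≤ I := fun a ha => (hmemI a).2 fun m => by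
    have : a • m ∈ I₀ • (⊤ : Submodule A M) := Submodule.smul_mem_smul ha trivial
    rwa [hI₀] at this
  have hIJ : I • (⊤ : Submodule A M) = J.restrictScalars A :=
    le_antisymm (Submodule.smul_le.2 fun a ha m _ => (hmemI a).1 ha m)
      (hI₀.ge.trans (Submodule.smul_mono_left hle₀))
  have hx : ∀ i, φ i x ∈ I • (⊤ : Submodule A (N i)) := fun i => Submodule.smul_mono_left hle₀ (hx₀ i)
  by_cases htop : I = ⊤
  · show x ∈ J.restrictScalars A
    rw [← hIJ, htop, Submodule.top_smul]
    trivial
  -- the induction hypothesis for larger ideals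
  have ih' : ∀ I' : Ideal A, I ≤ I' → ∀ a ∈ I', a ∉ I → ∀ y : M,
      (∀ i, φ i y ∈ I' • (⊤ : Submodule A (N i))) → y ∈ I' • (⊤ : Submodule A M) := by
    intro I' hle a ha haI y hy
    have h := Ideal.smul_restrictScalars (S := B) I' (⊤ : Submodule B M)
    rw [Submodule.restrictScalars_top] at h
    rw [← h]
    refine ih _ (lt_of_le_of_ne ?_ fun he => haI ((hmemI a).2 fun m => ?_)) I' h.symm y hy
    · intro m hm
      have : m ∈ I • (⊤ : Submodule A M) := by rw [hIJ]; exact hm
      have := Submodule.smul_mono_left hle this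
      rw [← h] at this
      exact this
    · rw [he]
      have : a • m ∈ I' • (⊤ : Submodule A M) := Submodule.smul_mem_smul ha trivial
      rw [← h] at this
      exact this
  have hJ : ∀ {m : M}, m ∈ J ↔ m ∈ I • (⊤ : Submodule A M) := fun {m} => by rw [hIJ]; rfl
  by_cases hI : I.IsPrime
  · -- vanishing in the fibre
    have h1 : (1 : I.ResidueField) ⊗ₜ[A] x = 0 := hf I _ fun i => by
      rw [LinearMap.lTensor_tmul]
      have := (FlatH4.one_tmul_eq_zero_iff I _).2 (hx i)
      have := congrArg ((IsScalarTower.toAlgHom A (A ⧸ I) I.ResidueField).toLinearMap.rTensor (N i)) this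
      rwa [LinearMap.rTensor_tmul, AlgHom.toLinearMap_apply, map_one, map_zero] at this
    obtain ⟨a, ha, hax⟩ := exists_smul_mem_smul_top_of_one_tmul I x h1
    rw [hIJ] at hax
    have hn : ∀ n : ℕ, x ∈ (I ⊔ Ideal.span {a ^ n}) • (⊤ : Submodule A M) := by
      intro n
      rcases Nat.eq_zero_or_pos n with rfl | hn
      · simp
      · exact ih' _ le_sup_left _ (Ideal.mem_sup_right (Ideal.mem_span_singleton_self (a ^ n)))
          (fun h => ha (hI.mem_of_pow_mem _ h)) _ fun i => Submodule.smul_mono_left le_sup_left (hx i)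
    have hmem : Submodule.Quotient.mk (p := J) x ∈
        (⨅ n : ℕ, (Ideal.span {algebraMap A B a}) ^ n • ⊤ : Submodule B (M ⧸ J)) := by
      rw [Submodule.mem_iInf]
      intro n
      have h2 := hn n
      rw [Submodule.sup_smul, Submodule.ideal_span_singleton_smul] at h2
      obtain ⟨y, hy, z, hz, hyz⟩ := Submodule.mem_sup.1 h2
      obtain ⟨c, -, rfl⟩ := Submodule.mem_smul_pointwise_iff_exists _ _ _ |>.1 hz
      rw [← hyz, Submodule.Quotient.mk_add, (Submodule.Quotient.mk_eq_zero J).2 (hJ.2 hy), zero_add,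
        ← algebraMap_smul B (a ^ n) c, map_pow, Submodule.Quotient.mk_smul]
      exact Submodule.smul_mem_smul (Ideal.pow_mem_pow (Ideal.mem_span_singleton_self _) n) trivial
    obtain ⟨⟨r, hr⟩, hrx⟩ := (Ideal.mem_iInf_smul_pow_eq_bot_iff _ _).1 hmem
    obtain ⟨b, rfl⟩ := Ideal.mem_span_singleton'.1 hr
    rw [← Submodule.Quotient.mk_eq_zero J]
    refine hrx.symm.trans ?_
    show (b * algebraMap A B a) • Submodule.Quotient.mk x = 0
    rw [← Submodule.Quotient.mk_smul, Submodule.Quotient.mk_eq_zero, mul_smul, algebraMap_smul]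
    exact J.smul_mem b hax
  · rw [Ideal.isPrime_iff] at hI
    push Not at hI
    obtain ⟨a, b, hab, ha, hb⟩ := hI htop
    have h1 : x ∈ (I ⊔ Ideal.span {a}) • (⊤ : Submodule A M) :=
      ih' _ le_sup_left a (Ideal.mem_sup_right (Ideal.mem_span_singleton_self a)) ha _
        fun i => Submodule.smul_mono_left le_sup_left (hx i)
    rw [Submodule.sup_smul, Submodule.ideal_span_singleton_smul] at h1
    obtain ⟨w, hw, z, hz, rfl⟩ := Submodule.mem_sup.1 h1
    obtain ⟨y, -, rfl⟩ := Submodule.mem_smul_pointwise_iff_exists _ _ _ |>.1 hz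
    refine add_mem (hJ.2 hw) (hJ.2 ?_)
    -- the colon ideal
    let I' : Ideal A := Submodule.comap (LinearMap.mulLeft A a) I
    have hle : I ≤ I' := fun c hc => Ideal.mul_mem_left I a hc
    have hy : y ∈ I' • (⊤ : Submodule A M) := by
      refine ih' _ hle b hab hb y fun i => ?_
      have hay : a • φ i y ∈ I • (⊤ : Submodule A (N i)) := by
        have h2 := hx i
        rw [map_add, map_smul] at h2
        refine (Submodule.add_mem_iff_right _ ?_).1 h2
        have := Submodule.mem_map_of_mem (f := φ i) hw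
        rw [Submodule.map_smul''] at this
        exact Submodule.smul_mono le_rfl le_top this
      rw [← FlatH4.one_tmul_eq_zero_iff]
      let μ : A ⧸ I' →ₗ[A] A ⧸ I := Submodule.mapQ I' I (LinearMap.mulLeft A a) le_rfl
      have hμ : Function.Injective μ := by
        rw [injective_iff_map_eq_zero]
        intro c hc
        obtain ⟨c, rfl⟩ := Submodule.Quotient.mk_surjective _ c
        rw [Submodule.mapQ_apply, Submodule.Quotient.mk_eq_zero] at hc
        exact (Submodule.Quotient.mk_eq_zero _).2 hc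
      apply Module.Flat.rTensor_preserves_injective_linearMap (M := N i) μ hμ
      rw [map_zero, LinearMap.rTensor_tmul]
      show (Ideal.Quotient.mk I (a * 1)) ⊗ₜ[A] φ i y = 0
      rw [mul_one, show Ideal.Quotient.mk I a = a • (1 : A ⧸ I) from by
        rw [Algebra.smul_def, mul_one]; rfl, smul_tmul]
      exact (FlatH4.one_tmul_eq_zero_iff I _).2 hay
    refine Submodule.smul_induction_on hy (fun c hc m _ => ?_) fun u v hu hv => by
      rw [smul_add]; exact add_mem hu hv
    rw [← mul_smul]
    exact Submodule.smul_mem_smul hc trivial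

include B in
/-- Fibrewise joint injectivity gives joint injectivity. -/
theorem eq_zero_of_fibre_mod (φ : ∀ i, M →ₗ[A] N i)
    (hf : ∀ (p : Ideal A) [p.IsPrime] (x : p.ResidueField ⊗[A] M),
      (∀ i, (φ i).lTensor p.ResidueField x = 0) → x = 0)
    (x : M) (hx : ∀ i, φ i x = 0) : x = 0 := by
  have := mem_smul_top_of_fibre B φ hf ⊥ x fun i => by rw [hx i]; exact zero_mem _
  simpa using this

end Groth.Agent.SepMod5
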