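import Groth.Agent.Lib.SepMod5.Chart
import Mathlib.RingTheory.Localization.Away.AdjoinRoot
import Mathlib.RingTheory.Adjoin.FG

/-!
# Separating families and extension of the ground field
-/

set_option autoImplicit false

universe u

open TensorProduct

namespace Groth.Agent.SepMod5

variable {k A B : Type u} [Field k] [CommRing A] [Algebra k A] [CommRing B] [Algebra k B]
  {M : Type u} [AddCommGroup M] [Module A M] {κ : Type u} {N : κ → Type u}
  [∀ i, AddCommGroup (N i)] [∀ i, Module A (N i)]

/-- Powers of a unit act injectively. -/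
theorem pow_smul_eq_zero_of_isUnit {T : Type u} [CommRing T] {P : Type u} [AddCommGroup P] [Module T P]
    {c : T} (hc : IsUnit c) {n : ℕ} {x : P} (h : c ^ n • x = 0) : x = 0 :=
  (hc.pow n).smul_eq_zero.1 h

/-- The map to a base change of a localization, linear over the algebra. -/
noncomputable abbrev locMap (A T L : Type u) [CommRing A] [CommRing T] [Algebra A T] [CommRing L] [Algebra A L]
    [Algebra T L] [IsScalarTower A T L] (P : Type u) [AddCommGroup P] [Module A P] :
    T ⊗[A] P →ₗ[T] L ⊗[A] P :=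
  AlgebraTensorModule.rTensor A P (Algebra.linearMap T L)

/-- An element of a base change to a localization. -/
theorem exists_pow_smul_eq_locMap {T L : Type u} [CommRing T] [Algebra A T] [CommRing L] [Algebra A L]
    [Algebra T L] [IsScalarTower A T L] (h : T) [IsLocalization.Away h L] (z : L ⊗[A] M) :
    ∃ (n : ℕ) (w : T ⊗[A] M), h ^ n • z = locMap A T L M w := by
  haveI : IsLocalizedModule (Submonoid.powers h) (Algebra.linearMap T L) :=
    (isLocalizedModule_iff_isLocalization).2 (by
      rw [Algebra.algebraMapSubmonoid, show algebraMap T T = RingHom.id T from rfl]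
      exact (Submonoid.map_id (Submonoid.powers h)).symm ▸ (inferInstance : IsLocalization (Submonoid.powers h) L))
  obtain ⟨⟨w, ⟨_, n, rfl⟩⟩, hn⟩ := IsLocalizedModule.surj (Submonoid.powers h) (locMap A T L M) z
  exact ⟨n, w, hn⟩

/-- Killed in a localization means killed by a power. -/
theorem exists_pow_smul_eq_zero_of_locMap {T L : Type u} [CommRing T] [Algebra A T] [CommRing L] [Algebra A L]
    [Algebra T L] [IsScalarTower A T L] (h : T) [IsLocalization.Away h L] (w : T ⊗[A] M)
    (hw : locMap A T L M w = 0) : ∃ n : ℕ, h ^ n • w = 0 := by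
  haveI : IsLocalizedModule (Submonoid.powers h) (Algebra.linearMap T L) :=
    (isLocalizedModule_iff_isLocalization).2 (by
      rw [Algebra.algebraMapSubmonoid, show algebraMap T T = RingHom.id T from rfl]
      exact (Submonoid.map_id (Submonoid.powers h)).symm ▸ (inferInstance : IsLocalization (Submonoid.powers h) L))
  obtain ⟨⟨_, n, rfl⟩, hn⟩ := (IsLocalizedModule.eq_zero_iff (Submonoid.powers h) (locMap A T L M)).1 hw
  exact ⟨n, hn⟩

/-- The base change map is natural in the module. -/
theorem locMap_lTensor {T L : Type u} [CommRing T] [Algebra A T] [CommRing L] [Algebra A L]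
    [Algebra T L] [IsScalarTower A T L] {P Q : Type u} [AddCommGroup P] [Module A P] [AddCommGroup Q]
    [Module A Q] (f : P →ₗ[A] Q) (w : T ⊗[A] P) :
    locMap A T L Q (f.baseChange T w) = f.baseChange L (locMap A T L P w) := by
  induction w using TensorProduct.induction_on with
  | zero => simp
  | add p q hp hq => simp only [map_add, hp, hq]
  | tmul t m => simp

/-- A separating family stays jointly injective on localizations of a base change of the ground field. -/
theorem baseChange_eq_zero_field (φ : ∀ i, M →ₗ[A] N i) (hφ : SchDom.Sep φ) (h : A ⊗[k] B)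
    (z : Localization.Away h ⊗[A] M) (hz : ∀ i, (φ i).baseChange (Localization.Away h) z = 0) : z = 0 := by
  classical
  let T := A ⊗[k] B
  let L := Localization.Away h
  obtain ⟨n, w, hw⟩ := exists_pow_smul_eq_locMap (T := T) h z
  -- coefficients
  obtain ⟨Th, hTh⟩ := TensorProduct.exists_finset (R := k) h
  obtain ⟨Tw, hTw⟩ := TensorProduct.exists_finset (R := A) w
  choose Tc hTc using fun t : T => TensorProduct.exists_finset (R := k) t
  let G : Finset B := Th.image Prod.snd ∪ Tw.biUnion fun t => (Tc t.1).image Prod.snd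
  let B₀ : Subalgebra k B := Algebra.adjoin k (G : Set B)
  haveI : Algebra.FiniteType k B₀ := B₀.fg_iff_finiteType.1 (Subalgebra.fg_adjoin_finset G)
  haveI : Algebra.FinitePresentation k B₀ := Algebra.FinitePresentation.of_finiteType.1 inferInstance
  let T₀ := A ⊗[k] B₀
  let ι₀ : T₀ →ₐ[A] T := Algebra.TensorProduct.map (AlgHom.id A A) B₀.val
  -- a linear retraction
  obtain ⟨r, hr⟩ := B₀.val.toLinearMap.exists_leftInverse_of_injective
    (LinearMap.ker_eq_bot.2 Subtype.val_injective)
  let ρ : T →ₗ[A] T₀ := r.baseChange A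
  have hρ : ρ.comp ι₀.toLinearMap = LinearMap.id := by
    apply TensorProduct.AlgebraTensorModule.ext
    intro a b
    have hb : r b.1 = b := LinearMap.congr_fun hr b
    show r.baseChange A (Algebra.TensorProduct.map (AlgHom.id A A) B₀.val (a ⊗ₜ b)) = a ⊗ₜ b
    rw [Algebra.TensorProduct.map_tmul, LinearMap.baseChange_tmul]
    exact congrArg (a ⊗ₜ[k] ·) hb
  have hinj : ∀ (P : Type u) [AddCommGroup P] [Module A P], Function.Injective (ι₀.toLinearMap.rTensor P) :=
    fun P _ _ => Function.LeftInverse.injective (g := ρ.rTensor P) fun x => by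
      rw [← LinearMap.rTensor_comp_apply, hρ, LinearMap.rTensor_id, LinearMap.id_apply]
  have hlift : ∀ (S : Finset (A × B)), S.image Prod.snd ⊆ G →
      ∃ c, ι₀ c = ∑ i ∈ S, i.1 ⊗ₜ[k] i.2 := by
    intro S hS
    refine ⟨∑ i ∈ S.attach, i.1.1 ⊗ₜ[k] (⟨i.1.2, Algebra.subset_adjoin
      (hS (Finset.mem_image_of_mem _ i.2))⟩ : B₀), ?_⟩
    rw [map_sum, ← Finset.sum_attach S (fun i => i.1 ⊗ₜ[k] i.2)]
    exact Finset.sum_congr rfl fun i _ => Algebra.TensorProduct.map_tmul _ _ _ _
  obtain ⟨h₀, hh₀⟩ := hlift Th Finset.subset_union_left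
  rw [← hTh] at hh₀
  choose c hc using fun t : Tw => hlift (Tc t.1.1) (subset_trans
    (Finset.subset_biUnion_of_mem (fun t : T × M => (Tc t.1).image Prod.snd) t.2) Finset.subset_union_right)
  let w₀ : T₀ ⊗[A] M := ∑ t ∈ Tw.attach, c t ⊗ₜ[A] t.1.2
  have hw₀ : ι₀.toLinearMap.rTensor M w₀ = w := by
    rw [hTw, map_sum, ← Finset.sum_attach Tw (fun t => t.1 ⊗ₜ[A] t.2)]
    refine Finset.sum_congr rfl fun t _ => ?_
    rw [LinearMap.rTensor_tmul, AlgHom.toLinearMap_apply, hc t, ← hTc]
  let ι₁ : ∀ (P : Type u) [AddCommGroup P] [Module A P], T₀ ⊗[A] P →ₗ[A] T ⊗[A] P :=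
    fun P _ _ => ι₀.toLinearMap.rTensor P
  have hι₁ : ∀ {P Q : Type u} [AddCommGroup P] [Module A P] [AddCommGroup Q] [Module A Q] (f : P →ₗ[A] Q)
      (y : T₀ ⊗[A] P), ι₁ Q (f.baseChange T₀ y) = f.baseChange T (ι₁ P y) := by
    intro P Q _ _ _ _ f y
    induction y using TensorProduct.induction_on with
    | zero => simp
    | add p q hp hq => simp only [map_add, hp, hq]
    | tmul t m => simp [ι₁]
  have hsmul : ∀ (P : Type u) [AddCommGroup P] [Module A P] (s : T₀) (y : T₀ ⊗[A] P),
      ι₁ P (s • y) = ι₀ s • ι₁ P y := by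
    intro P _ _ s y
    induction y using TensorProduct.induction_on with
    | zero => simp
    | add p q hp hq => simp only [map_add, smul_add, hp, hq]
    | tmul t m =>
      rw [TensorProduct.smul_tmul']
      show ι₀ (s * t) ⊗ₜ[A] m = ι₀ s • (ι₀ t ⊗ₜ[A] m)
      rw [TensorProduct.smul_tmul', map_mul, smul_eq_mul]
  let L₀ := Localization.Away h₀
  haveI : Algebra.FinitePresentation T₀ L₀ := IsLocalization.Away.finitePresentation h₀
  haveI : Algebra.FinitePresentation A L₀ := Algebra.FinitePresentation.trans A T₀ L₀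
  haveI : Module.Flat T₀ L₀ := IsLocalization.flat L₀ (Submonoid.powers h₀)
  haveI : Module.Flat A L₀ := Module.Flat.trans A T₀ L₀
  have hu₀ : IsUnit (algebraMap T₀ L₀ h₀) := IsLocalization.Away.algebraMap_isUnit h₀
  have hu : IsUnit (algebraMap T L h) := IsLocalization.Away.algebraMap_isUnit h
  have h1 : locMap A T₀ L₀ M w₀ = 0 := by
    refine baseChange_eq_zero_of_flat_fp L₀ φ hφ _ fun i => ?_
    rw [← locMap_lTensor]
    have h2 : locMap A T L (N i) (ι₁ (N i) ((φ i).baseChange T₀ w₀)) = 0 := by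
      rw [hι₁, show ι₁ M w₀ = w from hw₀, locMap_lTensor, ← hw,
        ← algebraMap_smul L (h ^ n) z, map_smul, hz i, smul_zero]
    obtain ⟨l, hl⟩ := exists_pow_smul_eq_zero_of_locMap (T := T) (L := L) h _ h2
    have h3 : h₀ ^ l • (φ i).baseChange T₀ w₀ = 0 := hinj (N i) (by
      rw [map_zero]
      refine (hsmul (N i) _ _).trans ?_
      rw [map_pow, hh₀]
      exact hl)
    refine pow_smul_eq_zero_of_isUnit hu₀ (n := l) ?_
    rw [← map_pow, algebraMap_smul, ← map_smul, h3, map_zero]
  obtain ⟨l, hl⟩ := exists_pow_smul_eq_zero_of_locMap (T := T₀) (L := L₀) h₀ w₀ h1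
  have h4 : h ^ l • w = 0 := by
    rw [← show ι₁ M w₀ = w from hw₀, ← hh₀, ← map_pow, ← hsmul, hl, map_zero]
  refine pow_smul_eq_zero_of_isUnit hu (n := l + n) ?_
  rw [← map_pow, algebraMap_smul, pow_add, mul_smul, hw, ← map_smul, h4, map_zero]

end Groth.Agent.SepMod5
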