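import Groth.Agent.Lib.SepMod5.Field

/-!
# Descending joint injectivity to finitely generated stages
-/

set_option autoImplicit false

universe u

open TensorProduct

namespace Groth.Agent.SepMod5

section

variable {A : Type u} [CommRing A] {M : Type u} [AddCommGroup M] [Module A M] {κ : Type u}
  {N : κ → Type u} [∀ i, AddCommGroup (N i)] [∀ i, Module A (N i)]

/-- Joint injectivity on a localization is inherited from a stage. -/
theorem eq_zero_of_stage {T₀ T : Type u} [CommRing T₀] [Algebra A T₀] [CommRing T] [Algebra A T]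
    (ι₀ : T₀ →ₐ[A] T) (φ : ∀ i, M →ₗ[A] N i)
    (hinj : ∀ i, Function.Injective (ι₀.toLinearMap.rTensor (N i))) (h₀ : T₀)
    (hstage : ∀ y : Localization.Away h₀ ⊗[A] M,
      (∀ i, (φ i).baseChange (Localization.Away h₀) y = 0) → y = 0)
    {h : T} (hh : ι₀ h₀ = h) (w₀ : T₀ ⊗[A] M) (z : Localization.Away h ⊗[A] M) (n : ℕ)
    (hw : h ^ n • z = locMap A T (Localization.Away h) M (ι₀.toLinearMap.rTensor M w₀))
    (hz : ∀ i, (φ i).baseChange (Localization.Away h) z = 0) : z = 0 := by
  let L := Localization.Away h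
  let L₀ := Localization.Away h₀
  let ι₁ : ∀ (P : Type u) [AddCommGroup P] [Module A P], T₀ ⊗[A] P →ₗ[A] T ⊗[A] P :=
    fun P _ _ => ι₀.toLinearMap.rTensor P
  have hι₁ : ∀ {P Q : Type u} [AddCommGroup P] [Module A P] [AddCommGroup Q] [Module A Q] (f : P →ₗ[A] Q)
      (y : T₀ ⊗[A] P), ι₁ Q (f.baseChange T₀ y) = f.baseChange T (ι₁ P y) := by
    intro P Q _ _ _ _ f y
    induction y using TensorProduct.induction_on with
    | zero => simp
    | add p q hp hq => simp only [map_add, hp, hq]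
    | tmul t m => simp [ι₁]
  have hsmul : ∀ (P : Type u) [AddCommGroup P] [Module A P] (s : T₀) (y : T₀ ⊗[A] P),
      ι₁ P (s • y) = ι₀ s • ι₁ P y := by
    intro P _ _ s y
    induction y using TensorProduct.induction_on with
    | zero => simp
    | add p q hp hq => simp only [map_add, smul_add, hp, hq]
    | tmul t m =>
      rw [TensorProduct.smul_tmul']
      show ι₀ (s * t) ⊗ₜ[A] m = ι₀ s • (ι₀ t ⊗ₜ[A] m)
      rw [TensorProduct.smul_tmul', map_mul, smul_eq_mul]
  have hu₀ : IsUnit (algebraMap T₀ L₀ h₀) := IsLocalization.Away.algebraMap_isUnit h₀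
  have hu : IsUnit (algebraMap T L h) := IsLocalization.Away.algebraMap_isUnit h
  have h1 : locMap A T₀ L₀ M w₀ = 0 := by
    refine hstage _ fun i => ?_
    rw [← locMap_lTensor]
    have h2 : locMap A T L (N i) (ι₁ (N i) ((φ i).baseChange T₀ w₀)) = 0 := by
      rw [hι₁, locMap_lTensor, ← hw, ← algebraMap_smul L (h ^ n) z, map_smul, hz i, smul_zero]
    obtain ⟨l, hl⟩ := exists_pow_smul_eq_zero_of_locMap (T := T) (L := L) h _ h2
    have h3 : h₀ ^ l • (φ i).baseChange T₀ w₀ = 0 := hinj i (by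
      rw [map_zero]
      refine (hsmul (N i) _ _).trans ?_
      rw [map_pow, hh]
      exact hl)
    refine pow_smul_eq_zero_of_isUnit hu₀ (n := l) ?_
    rw [← map_pow, algebraMap_smul, ← map_smul, h3, map_zero]
  obtain ⟨l, hl⟩ := exists_pow_smul_eq_zero_of_locMap (T := T₀) (L := L₀) h₀ w₀ h1
  have h4 : h ^ l • ι₁ M w₀ = 0 := by rw [← hh, ← map_pow, ← hsmul, hl, map_zero]
  refine pow_smul_eq_zero_of_isUnit hu (n := l + n) ?_
  rw [← map_pow, algebraMap_smul, pow_add, mul_smul, hw, ← map_smul, h4, map_zero]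

end

/-- Finitely many elements live over a finitely generated subalgebra. -/
theorem exists_fg_lift {k A B : Type u} [CommRing k] [CommRing A] [Algebra k A] [CommRing B]
    [Algebra k B] {M : Type u} [AddCommGroup M] [Module A M] (h : A ⊗[k] B)
    (w : (A ⊗[k] B) ⊗[A] M) :
    ∃ (B₀ : Subalgebra k B), B₀.FG ∧ ∃ (h₀ : A ⊗[k] B₀) (w₀ : (A ⊗[k] B₀) ⊗[A] M),
      Algebra.TensorProduct.map (AlgHom.id A A) B₀.val h₀ = h ∧
      (Algebra.TensorProduct.map (AlgHom.id A A) B₀.val).toLinearMap.rTensor M w₀ = w := by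
  classical
  obtain ⟨Th, hTh⟩ := TensorProduct.exists_finset (R := k) h
  obtain ⟨Tw, hTw⟩ := TensorProduct.exists_finset (R := A) w
  choose Tc hTc using fun t : A ⊗[k] B => TensorProduct.exists_finset (R := k) t
  let G : Finset B := Th.image Prod.snd ∪ Tw.biUnion fun t => (Tc t.1).image Prod.snd
  let B₀ : Subalgebra k B := Algebra.adjoin k (G : Set B)
  let ι₀ : A ⊗[k] B₀ →ₐ[A] A ⊗[k] B := Algebra.TensorProduct.map (AlgHom.id A A) B₀.val
  have hlift : ∀ (S : Finset (A × B)), S.image Prod.snd ⊆ G →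
      ∃ c, ι₀ c = ∑ i ∈ S, i.1 ⊗ₜ[k] i.2 := by
    intro S hS
    refine ⟨∑ i ∈ S.attach, i.1.1 ⊗ₜ[k] (⟨i.1.2, Algebra.subset_adjoin
      (hS (Finset.mem_image_of_mem _ i.2))⟩ : B₀), ?_⟩
    rw [map_sum, ← Finset.sum_attach S (fun i => i.1 ⊗ₜ[k] i.2)]
    exact Finset.sum_congr rfl fun i _ => Algebra.TensorProduct.map_tmul _ _ _ _
  obtain ⟨h₀, hh₀⟩ := hlift Th Finset.subset_union_left
  rw [← hTh] at hh₀
  choose c hc using fun t : Tw => hlift (Tc t.1.1) (subset_trans
    (Finset.subset_biUnion_of_mem (fun t : (A ⊗[k] B) × M => (Tc t.1).image Prod.snd) t.2)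
    Finset.subset_union_right)
  refine ⟨B₀, Subalgebra.fg_adjoin_finset G, h₀, ∑ t ∈ Tw.attach, c t ⊗ₜ[A] t.1.2, hh₀, ?_⟩
  rw [hTw, map_sum, ← Finset.sum_attach Tw (fun t => t.1 ⊗ₜ[A] t.2)]
  refine Finset.sum_congr rfl fun t _ => ?_
  rw [LinearMap.rTensor_tmul, AlgHom.toLinearMap_apply]
  exact congrArg (· ⊗ₜ[A] t.1.2) ((hc t).trans (hTc t.1.1).symm)

/-- A subalgebra stays injective after tensoring with a module flat over the base. -/
theorem rTensor_val_injective_of_flat {k A B : Type u} [CommRing k] [CommRing A] [Algebra k A] [CommRing B]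
    [Algebra k B] (B₀ : Subalgebra k B) (P : Type u) [AddCommGroup P] [Module k P] [Module A P]
    [IsScalarTower k A P] [Module.Flat k P] :
    Function.Injective
      ((Algebra.TensorProduct.map (AlgHom.id A A) B₀.val).toLinearMap.rTensor P) := by
  let c₀ : (A ⊗[k] B₀) ⊗[A] P ≃ₗ[A] P ⊗[k] B₀ :=
    (TensorProduct.comm A _ _).trans (AlgebraTensorModule.cancelBaseChange k A A P B₀)
  let c : (A ⊗[k] B) ⊗[A] P ≃ₗ[A] P ⊗[k] B :=
    (TensorProduct.comm A _ _).trans (AlgebraTensorModule.cancelBaseChange k A A P B)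
  have key : ∀ y, c ((Algebra.TensorProduct.map (AlgHom.id A A) B₀.val).toLinearMap.rTensor P y) =
      B₀.val.toLinearMap.lTensor P (c₀ y) := by
    intro y
    induction y using TensorProduct.induction_on with
    | zero => simp
    | add a b ha hb => simp only [map_add, ha, hb]
    | tmul t m =>
      induction t using TensorProduct.induction_on with
      | zero => simp
      | add a b ha hb => simp only [map_add, add_tmul, ha, hb]
      | tmul a b => simp [c, c₀]
  intro y y' hy
  apply c₀.injective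
  apply Module.Flat.lTensor_preserves_injective_linearMap (M := P) B₀.val.toLinearMap Subtype.val_injective
  rw [← key, ← key, hy]

end Groth.Agent.SepMod5
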