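import Groth.Agent.Lib.SepMod5.Chart

/-!
# Separating families and isomorphisms
-/

set_option autoImplicit false
set_option backward.isDefEq.respectTransparency.types false

universe u

open AlgebraicGeometry CategoryTheory
open Groth.Agent

namespace Groth.Agent.SepMod5

variable {X : Scheme.{u}} {ι : Type u}

/-- Separation is invariant under isomorphisms of families. -/
theorem Separating.of_iso {F F' : X.Modules} {G G' : ι → X.Modules} {u : ∀ i, F ⟶ G i} {u' : ∀ i, F' ⟶ G' i}
    (h : Separating u) (eF : F ≅ F') (eG : ∀ i, G i ≅ G' i) (hc : ∀ i, u i ≫ (eG i).hom = eF.hom ≫ u' i) :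
    Separating u' := by
  intro V t ht
  have h1 : eF.inv.app V t = 0 := by
    refine h V _ fun i => ?_
    have h2 : u i = eF.hom ≫ u' i ≫ (eG i).inv := by
      rw [← Category.assoc, ← hc i, Category.assoc, Iso.hom_inv_id, Category.comp_id]
    show (u i).app V (eF.inv.app V t) = 0
    rw [h2]
    show (eG i).inv.app V ((u' i).app V (eF.hom.app V (eF.inv.app V t))) = 0
    have h3 : eF.hom.app V (eF.inv.app V t) = t :=
      congrArg (fun φ => φ.app V t) eF.inv_hom_id
    rw [h3, show (u' i).app V t = 0 from ht i]
    exact map_zero ((eG i).inv.app V).hom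
  have h4 : eF.hom.app V (eF.inv.app V t) = t := congrArg (fun φ => φ.app V t) eF.inv_hom_id
  rw [← h4, h1]
  exact map_zero (eF.hom.app V).hom

/-- Iterated pullbacks. -/
theorem Separating.pullback_comp {F : X.Modules} {G : ι → X.Modules} {u : ∀ i, F ⟶ G i}
    {Y Z : Scheme.{u}} {f : Y ⟶ X} {g : Z ⟶ Y}
    (h : Separating fun i => (Scheme.Modules.pullback g).map ((Scheme.Modules.pullback f).map (u i))) :
    Separating fun i => (Scheme.Modules.pullback (g ≫ f)).map (u i) :=
  h.of_iso ((Scheme.Modules.pullbackComp g f).app F) (fun i => (Scheme.Modules.pullbackComp g f).app (G i))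
    fun i => (Scheme.Modules.pullbackComp g f).hom.naturality (u i)

/-- Pullback along equal maps. -/
theorem Separating.pullback_congr {F : X.Modules} {G : ι → X.Modules} {u : ∀ i, F ⟶ G i}
    {Y : Scheme.{u}} {f f' : Y ⟶ X} (e : f = f')
    (h : Separating fun i => (Scheme.Modules.pullback f).map (u i)) :
    Separating fun i => (Scheme.Modules.pullback f').map (u i) := by
  subst e; exact h

end Groth.Agent.SepMod5
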